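import Groth.Agent.InvLib.DepthFinite

/-!
# Depth and dimension at a prime of the base
-/

set_option autoImplicit false

universe u

open IsLocalRing

namespace Groth.Agent.InvLib

set_option linter.unusedSectionVars false
set_option maxHeartbeats 800000

/-- Supports and localisation. -/
theorem mem_support_iff_of_isLocalizedModule {R : Type u} [CommRing R] (S : Submonoid R)
    (R' : Type u) [CommRing R'] [Algebra R R'] [IsLocalization S R'] {M N : Type u} [AddCommGroup M]
    [Module R M] [AddCommGroup N] [Module R N] [Module R' N] [IsScalarTower R R' N] (f : M →ₗ[R] N)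
    [IsLocalizedModule S f] (P : PrimeSpectrum R') :
    P ∈ Module.support R' N ↔ PrimeSpectrum.comap (algebraMap R R') P ∈ Module.support R M := by
  refine ⟨fun h => ?_, fun h => ?_⟩
  · have h1 := Module.support_subset_preimage_comap (R := R) h
    rw [Set.mem_preimage, Module.mem_support_iff'] at h1
    obtain ⟨z, hz⟩ := h1
    obtain ⟨⟨m, t⟩, rfl⟩ := IsLocalizedModule.mk'_surjective S f z
    rw [Module.mem_support_iff']
    refine ⟨m, fun r hr hrm => hz r hr ?_⟩
    simp only [Function.uncurry_apply_pair, ← IsLocalizedModule.mk'_smul, hrm, IsLocalizedModule.mk'_zero]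
  · rw [Module.mem_support_iff'] at h ⊢
    obtain ⟨m, hm⟩ := h
    refine ⟨f m, fun s hs hsm => ?_⟩
    obtain ⟨a, t, rfl⟩ := IsLocalization.exists_mk'_eq S s
    have ha : a ∉ P.asIdeal.under R := fun h' => hs (by
      rw [IsLocalization.mk'_eq_mul_mk'_one a t]
      exact P.asIdeal.mul_mem_right _ h')
    have h2 : algebraMap R R' (a : R) • f m = 0 := by
      rw [← IsLocalization.mk'_spec R' a t, mul_comm, mul_smul, hsm, smul_zero]
    rw [algebraMap_smul, ← map_smul] at h2
    obtain ⟨v, hv⟩ := (IsLocalizedModule.eq_zero_iff S f).mp h2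
    refine hm ((v : R) * a) (fun h' => ?_) (by rw [mul_smul]; exact hv)
    rcases (inferInstance : (P.asIdeal.under R).IsPrime).mem_or_mem h' with h'' | h''
    · exact P.isPrime.ne_top (P.asIdeal.eq_top_of_isUnit_mem h'' (IsLocalization.map_units R' v))
    · exact ha h''

/-- The chains in the support below `Q` are those of the local module at its contraction. -/
theorem supportDim_localization_eq {R : Type u} [CommRing R] (S : Submonoid R)
    (R' : Type u) [CommRing R'] [Algebra R R'] [IsLocalization S R'] {M N : Type u} [AddCommGroup M]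
    [Module R M] [AddCommGroup N] [Module R N] [Module R' N] [IsScalarTower R R' N] (f : M →ₗ[R] N)
    [IsLocalizedModule S f] [Module.Finite R M] :
    Module.supportDim R' N = ⨆ Q ∈ {Q : PrimeSpectrum R' | Q ∈ Module.support R' N ∧ Q.asIdeal.IsMaximal},
      Module.supportDim (Localization.AtPrime (Q.asIdeal.under R))
        (LocalizedModule (Q.asIdeal.under R).primeCompl M) := by
  have key : ∀ {P₁ P₂ : PrimeSpectrum R'}, P₁.asIdeal.under R ≤ P₂.asIdeal.under R → P₁.asIdeal ≤ P₂.asIdeal :=
    fun {P₁ P₂} h => by
      rw [← IsLocalization.map_under S R' P₁.asIdeal, ← IsLocalization.map_under S R' P₂.asIdeal]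
      exact Ideal.map_mono h
  have : Module.Finite R' N := Module.Finite.of_isLocalizedModule S f
  refine le_antisymm ?_ (iSup₂_le fun Q hQ => ?_)
  · rw [Module.supportDim, Order.krullDim]
    refine iSup_le fun l => ?_
    obtain ⟨m, hm, hle⟩ := Ideal.exists_le_maximal l.last.1.asIdeal l.last.1.isPrime.ne_top
    have hQ : (⟨m, hm.isPrime⟩ : PrimeSpectrum R') ∈ Module.support R' N :=
      Module.mem_support_mono (p := l.last.1) hle l.last.2
    refine le_iSup₂_of_le (⟨m, hm.isPrime⟩ : PrimeSpectrum R') ⟨hQ, hm⟩ ?_
    have hex : ∀ i, ∃ Q : Module.support (Localization.AtPrime (m.under R))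
        (LocalizedModule (m.under R).primeCompl M), Q.1.asIdeal.under R = (l i).1.asIdeal.under R := by
      intro i
      have hlm : (l i).1.asIdeal ≤ m := le_trans (show (l i).1.asIdeal ≤ l.last.1.asIdeal from l.monotone (Fin.le_last i)) hle
      obtain ⟨Q, hQ', hQP⟩ := CommAlg6.exists_under_eq (m.under R) ((l i).1.asIdeal.under R) (Ideal.comap_mono hlm)
      refine ⟨⟨⟨Q, hQ'⟩, ?_⟩, hQP⟩
      rw [CommAlg6.mem_support_localizedModule]
      have h := (mem_support_iff_of_isLocalizedModule S R' f (l i).1).1 (l i).2
      convert h using 1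
      exact PrimeSpectrum.ext hQP
    choose F hF using hex
    have hlt : ∀ i : Fin l.length, F i.castSucc < F i.succ := fun i => by
      have h1 : (l i.castSucc).1.asIdeal < (l i.succ).1.asIdeal := l.step i
      have hle2 : (F i.castSucc).1.asIdeal ≤ (F i.succ).1.asIdeal := by
        rw [← IsLocalization.map_under (m.under R).primeCompl (Localization.AtPrime (m.under R))
          (F i.castSucc).1.asIdeal, ← IsLocalization.map_under (m.under R).primeCompl
          (Localization.AtPrime (m.under R)) (F i.succ).1.asIdeal, hF, hF]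
        exact Ideal.map_mono (Ideal.comap_mono h1.le)
      refine lt_of_le_of_ne hle2 fun e => h1.not_ge (key ?_)
      rw [← hF, ← hF, e]
    exact le_iSup_of_le (⟨l.length, F, hlt⟩ : LTSeries _) le_rfl
  · have hex : ∀ P : Module.support (Localization.AtPrime (Q.asIdeal.under R))
        (LocalizedModule (Q.asIdeal.under R).primeCompl M),
        ∃ P' : Module.support R' N, P'.1.asIdeal.under R = P.1.asIdeal.under R := by
      intro P
      have hP := CommAlg6.under_le (Q.asIdeal.under R) P.1.asIdeal
      have hdisj : Disjoint (S : Set R) (P.1.asIdeal.under R : Set R) := by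
        rw [Set.disjoint_left]
        exact fun s hs hsP => Q.isPrime.ne_top (Q.asIdeal.eq_top_of_isUnit_mem (hP hsP)
          (IsLocalization.map_units R' ⟨s, hs⟩))
      refine ⟨⟨⟨(P.1.asIdeal.under R).map (algebraMap R R'),
        IsLocalization.isPrime_of_isPrime_disjoint S R' _ inferInstance hdisj⟩, ?_⟩, ?_⟩
      · rw [mem_support_iff_of_isLocalizedModule S R' f]
        have h := (CommAlg6.mem_support_localizedModule (Q.asIdeal.under R) P.1).1 P.2
        convert h using 1
        exact PrimeSpectrum.ext (IsLocalization.under_map_of_isPrime_disjoint S R' inferInstance hdisj)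
      · exact IsLocalization.under_map_of_isPrime_disjoint S R' inferInstance hdisj
    choose F hF using hex
    refine Order.krullDim_le_of_strictMono F fun P P' h => ?_
    have h1 : P.1.asIdeal < P'.1.asIdeal := h
    refine lt_of_le_of_ne (key (by rw [hF, hF]; exact Ideal.comap_mono h1.le)) fun e => h1.not_ge ?_
    rw [← IsLocalization.map_under (Q.asIdeal.under R).primeCompl (Localization.AtPrime (Q.asIdeal.under R))
        P'.1.asIdeal, ← IsLocalization.map_under (Q.asIdeal.under R).primeCompl
        (Localization.AtPrime (Q.asIdeal.under R)) P.1.asIdeal, ← hF, ← hF, e]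

/-- Depth at a prime of a localisation. -/
theorem depth_localization_eq {R : Type u} [CommRing R] [IsNoetherianRing R] (S : Submonoid R)
    (R' : Type u) [CommRing R'] [Algebra R R'] [IsLocalization S R'] {M N : Type u} [AddCommGroup M]
    [Module R M] [AddCommGroup N] [Module R N] [Module R' N] [IsScalarTower R R' N] (f : M →ₗ[R] N)
    [IsLocalizedModule S f] (Q : Ideal R') [Q.IsPrime] :
    _root_.LocCoh.depth (Localization.AtPrime Q) (LocalizedModule Q.primeCompl N) =
      _root_.LocCoh.depth (Localization.AtPrime (Q.under R)) (LocalizedModule (Q.under R).primeCompl M) := by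
  let T := Localization.AtPrime Q
  have : IsLocalization.AtPrime T (Q.under R) :=
    IsLocalization.isLocalization_isLocalization_atPrime_isLocalization S T Q
  let g : M →ₗ[R] LocalizedModule Q.primeCompl N :=
    ((LocalizedModule.mkLinearMap Q.primeCompl N).restrictScalars R).comp f
  have hg : IsLocalizedModule (Q.under R).primeCompl g := by
    rw [isLocalizedModule_iff_isBaseChange (Q.under R).primeCompl T]
    exact (IsLocalizedModule.isBaseChange S R' f).comp
      (IsLocalizedModule.isBaseChange Q.primeCompl T (LocalizedModule.mkLinearMap Q.primeCompl N))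
  let U := Localization.AtPrime (Q.under R)
  let e : U ≃ₐ[R] T := IsLocalization.algEquiv (Q.under R).primeCompl U T
  let := e.toRingHom.toAlgebra
  let := Module.compHom (LocalizedModule Q.primeCompl N) e.toRingHom
  have : IsScalarTower U T (LocalizedModule Q.primeCompl N) := ⟨fun x y z => by
    show (e x * y) • z = e x • (y • z)
    rw [mul_smul]⟩
  have : IsScalarTower R U (LocalizedModule Q.primeCompl N) := ⟨fun r x z => by
    show e (r • x) • z = r • (e x • z)
    rw [map_smul, smul_assoc]⟩
  rw [CAlgH3.depth_of_surjective (R := U) (S := T) e.surjective (LocalizedModule Q.primeCompl N)]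
  exact CAlgH3.depth_congr ((IsLocalizedModule.iso (Q.under R).primeCompl g).symm.extendScalarsOfIsLocalization
    (Q.under R).primeCompl U)

variable {A B : Type u} [CommRing A] [CommRing B] [IsNoetherianRing A] [IsNoetherianRing B] [Algebra A B]

theorem supportDim_depth_eq (M : Type u) [AddCommGroup M] [Module B M] [Module A M] [IsScalarTower A B M]
    [Module.Finite A M] (p : Ideal A) [p.IsPrime] :
    Module.supportDim (Localization.AtPrime p) (LocalizedModule p.primeCompl M) =
        ⨆ q ∈ {q : PrimeSpectrum B | q.asIdeal.comap (algebraMap A B) = p ∧ q ∈ Module.support B M},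
          Module.supportDim (Localization.AtPrime q.asIdeal) (LocalizedModule q.asIdeal.primeCompl M) ∧
      _root_.LocCoh.depth (Localization.AtPrime p) (LocalizedModule p.primeCompl M) =
        ⨅ q ∈ {q : PrimeSpectrum B | q.asIdeal.comap (algebraMap A B) = p ∧ q ∈ Module.support B M},
          _root_.LocCoh.depth (Localization.AtPrime q.asIdeal) (LocalizedModule q.asIdeal.primeCompl M) := by
  have : Module.Finite B M := Module.Finite.of_restrictScalars_finite A B M
  let SB := Algebra.algebraMapSubmonoid B p.primeCompl
  let A' := Localization.AtPrime p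
  let B' := Localization SB
  let N := LocalizedModule SB M
  have : IsNoetherianRing B' := IsLocalization.isNoetherianRing SB B' inferInstance
  have : IsNoetherianRing A' := IsLocalization.isNoetherianRing p.primeCompl A' inferInstance
  let : Algebra A' B' := localizationAlgebra p.primeCompl B
  have : IsScalarTower A A' B' := isScalarTower_localizationAlgebra p.primeCompl B
  let := Module.compHom N (algebraMap A' B')
  have : IsScalarTower A' B' N := ⟨fun x y z => by
    show (x • y) • z = algebraMap A' B' x • (y • z)
    rw [Algebra.smul_def, mul_smul]⟩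
  have : IsScalarTower A A' N := IsScalarTower.to₁₂₄ A A' B' N
  let g : M →ₗ[A] N := (LocalizedModule.mkLinearMap SB M).restrictScalars A
  have : IsLocalizedModule p.primeCompl g := IsLocalizedModule.restrictScalars p.primeCompl _
  have : Module.Finite A' N := Module.Finite.of_isLocalizedModule p.primeCompl g
  let e : LocalizedModule p.primeCompl M ≃ₗ[A'] N :=
    (IsLocalizedModule.iso p.primeCompl g).extendScalarsOfIsLocalization p.primeCompl A'
  let f : M →ₗ[B] N := LocalizedModule.mkLinearMap SB M
  let under : PrimeSpectrum B' → PrimeSpectrum B := PrimeSpectrum.comap (algebraMap B B')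
  have hover : ∀ Q : PrimeSpectrum B', Q.asIdeal.comap (algebraMap A' B') = maximalIdeal A' →
      (Q.asIdeal.under B).comap (algebraMap A B) = p := fun Q hQ => by
    rw [Ideal.under_def, Ideal.comap_comap, ← IsScalarTower.algebraMap_eq A B B',
      IsScalarTower.algebraMap_eq A A' B', ← Ideal.comap_comap, hQ]
    exact IsLocalization.AtPrime.under_maximalIdeal A' p
  have hlift : ∀ q : PrimeSpectrum B, q.asIdeal.comap (algebraMap A B) = p → q ∈ Module.support B M →
      ∃ Q : PrimeSpectrum B', Q.asIdeal.under B = q.asIdeal ∧ Q ∈ Module.support B' N ∧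
        (maximalIdeal A').map (algebraMap A' B') ≤ Q.asIdeal := fun q hq hs => by
    have hdisj : Disjoint (SB : Set B) (q.asIdeal : Set B) := by
      rw [Set.disjoint_left]
      rintro _ ⟨a, ha, rfl⟩ haq
      exact ha (hq.le haq)
    have hu : (q.asIdeal.map (algebraMap B B')).under B = q.asIdeal :=
      IsLocalization.under_map_of_isPrime_disjoint SB B' q.isPrime hdisj
    refine ⟨⟨q.asIdeal.map (algebraMap B B'), IsLocalization.isPrime_of_isPrime_disjoint SB B' _ q.isPrime hdisj⟩,
      hu, ?_, ?_⟩
    · rw [mem_support_iff_of_isLocalizedModule SB B' f]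
      convert hs using 1
      exact PrimeSpectrum.ext hu
    · rw [← Localization.AtPrime.map_eq_maximalIdeal, Ideal.map_map, ← IsScalarTower.algebraMap_eq A A' B',
        IsScalarTower.algebraMap_eq A B B', ← Ideal.map_map]
      exact Ideal.map_mono (Ideal.map_le_iff_le_comap.2 hq.ge)
  have hmax : ∀ Q : PrimeSpectrum B', Q ∈ Module.support B' N → Q.asIdeal.IsMaximal →
      Q.asIdeal.comap (algebraMap A' B') = maximalIdeal A' := fun Q hQ hQm =>
    IsLocalRing.eq_maximalIdeal (isMaximal_comap_of_mem_support N hQ hQm)
  constructor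
  · rw [Module.supportDim_eq_of_equiv e, supportDim_restrictScalars (B := B'),
      supportDim_localization_eq SB B' f]
    refine le_antisymm (iSup₂_le fun Q hQ => ?_) (iSup₂_le fun q hq => ?_)
    · exact le_iSup₂_of_le (under Q) ⟨hover Q (hmax Q hQ.1 hQ.2),
        (mem_support_iff_of_isLocalizedModule SB B' f Q).1 hQ.1⟩ le_rfl
    · obtain ⟨Q, hQu, hQs, -⟩ := hlift q hq.1 hq.2
      obtain ⟨m, hm, hle⟩ := Ideal.exists_le_maximal Q.asIdeal Q.isPrime.ne_top
      refine le_iSup₂_of_le (⟨m, hm.isPrime⟩ : PrimeSpectrum B')
        ⟨Module.mem_support_mono (p := Q) hle hQs, hm⟩ ?_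
      exact CommAlg6.supportDim_localizedModule_mono (m.under B) q.asIdeal (hQu.ge.trans (Ideal.comap_mono hle))
  · rw [CAlgH3.depth_congr e, ← idealDepth_map_maximalIdeal (B := B'), LocCoh.idealDepth_eq_iInf_depth]
    refine le_antisymm (le_iInf₂ fun q hq => ?_) (le_iInf₂ fun Q hQ => ?_)
    · obtain ⟨Q, hQu, hQs, hQm⟩ := hlift q hq.1 hq.2
      refine iInf₂_le_of_le Q hQm (le_of_eq ((depth_localization_eq SB B' f Q.asIdeal).trans ?_))
      obtain rfl : under Q = q := PrimeSpectrum.ext hQu
      rfl
    · by_cases hs : Q ∈ Module.support B' N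
      · refine iInf₂_le_of_le (under Q) ⟨hover Q ?_, (mem_support_iff_of_isLocalizedModule SB B' f Q).1 hs⟩
          (le_of_eq (depth_localization_eq SB B' f Q.asIdeal).symm)
        exact (IsLocalRing.eq_maximalIdeal (maximalIdeal.isMaximal A') ▸
          ((maximalIdeal.isMaximal A').eq_of_le (Ideal.IsPrime.ne_top inferInstance)
            (Ideal.map_le_iff_le_comap.1 hQ)).symm)
      · have := Module.notMem_support_iff.1 hs
        rw [CAlgH3.depth_eq_top_of_subsingleton]
        exact le_top

end Groth.Agent.InvLib
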