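import Groth.Agent.InvLib.FiniteGroupOrbit
import Groth.Agent.InvLib.DepthLocalize
import Groth.Agent.HopfLib.Integral

/-!
# Depth and dimension of invariants of linearly reductive finite group schemes
-/

set_option autoImplicit false

open TensorProduct HopfRep Groth.Agent.HopfLib

universe u

namespace Groth.Agent.InvLib

set_option linter.unusedSectionVars false
set_option maxHeartbeats 400000

variable {k : Type u} [Field k] {H : Type u} [CommRing H] [HopfAlgebra k H] [Module.Finite k H]
  {R : Type u} [CommRing R] [Algebra k R] [Algebra.FiniteType k R] [Comod k H R] [GLin.IsCoactAlg k H R]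

theorem isNoetherianRing_invariants :
    IsNoetherianRing R ∧ IsNoetherianRing (GLin.invariants k H R) ∧ Module.Finite (GLin.invariants k H R) R :=
  ⟨Algebra.FiniteType.isNoetherianRing k R,
    (have := (finiteType_and_finite_invariants k H R).1; Algebra.FiniteType.isNoetherianRing k _),
    (finiteType_and_finite_invariants k H R).2⟩

/-- Primes with the same trace have local rings of the same dimension. -/
theorem supportDim_eq_of_comap_eq (q q' : PrimeSpectrum R)
    (h : q.asIdeal.comap (algebraMap (GLin.invariants k H R) R) =
      q'.asIdeal.comap (algebraMap (GLin.invariants k H R) R)) :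
    Module.supportDim (Localization.AtPrime q.asIdeal) (LocalizedModule q.asIdeal.primeCompl R) =
      Module.supportDim (Localization.AtPrime q'.asIdeal) (LocalizedModule q'.asIdeal.primeCompl R) := by
  obtain ⟨hN, -, -⟩ := isNoetherianRing_invariants (k := k) (H := H) (R := R)
  have e : ∀ x : PrimeSpectrum R,
      Module.supportDim (Localization.AtPrime x.asIdeal) (LocalizedModule x.asIdeal.primeCompl R) =
        (x.asIdeal.height : WithBot ℕ∞) := fun x => by
    rw [← IsLocalization.AtPrime.ringKrullDim_eq_height x.asIdeal (Localization.AtPrime x.asIdeal),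
      ← Module.supportDim_self_eq_ringKrullDim]
  rw [e, e, height_eq_of_comap_eq q.asIdeal q'.asIdeal h]

/-- The Reynolds operator, linear over the invariants. -/
theorem exists_retraction (hG : HopfRep.IsLinearlyReductive k H) :
    ∃ E : R →ₗ[GLin.invariants k H R] GLin.invariants k H R,
      E ∘ₗ Algebra.linearMap (GLin.invariants k H R) R = LinearMap.id := by
  obtain ⟨α, hα, h1⟩ := exists_integral hG
  refine ⟨{ toFun := fun x => ⟨hit α x, reynolds_mem_fixedPts hα h1 x⟩
            map_add' := fun x y => Subtype.ext (map_add _ x y)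
            map_smul' := fun a x => Subtype.ext ?_ }, ?_⟩
  · show hit α ((a : R) * x) = (a : R) * hit α x
    rw [hit_apply, hit_apply, GLin.IsCoactAlg.coact_mul, (GLin.mem_invariants_iff k H R _).1 a.2]
    generalize Comod.coact (k := k) (A := H) x = t
    induction t using TensorProduct.induction_on with
    | zero => simp
    | add p q hp hq => simp only [mul_add, map_add, hp, hq]
    | tmul b c => simp [mul_smul_comm]
  · exact LinearMap.ext fun a => Subtype.ext (hit_eq_self_of_mem_fixedPts h1 a.2)

theorem hasSk_invariants (hG : HopfRep.IsLinearlyReductive k H) (r : ℕ) (hR : _root_.LocCoh.HasSk r R R) :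
    _root_.LocCoh.HasSk r (GLin.invariants k H R) R ∧
      _root_.LocCoh.HasSk r (GLin.invariants k H R) (GLin.invariants k H R) := by
  obtain ⟨hN, hNA, hfin⟩ := isNoetherianRing_invariants (k := k) (H := H) (R := R)
  set A := GLin.invariants k H R
  obtain ⟨E, hE⟩ := exists_retraction (R := R) hG
  have h1 : _root_.LocCoh.HasSk r A R := by
    intro p _
    obtain ⟨hd, hp⟩ := supportDim_depth_eq (B := R) R p
    rw [hd, hp]
    by_cases hne : ∃ q₀ : PrimeSpectrum R, q₀.asIdeal.comap (algebraMap A R) = p ∧ q₀ ∈ Module.support R R
    · obtain ⟨q₀, hq₀, hs₀⟩ := hne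
      rw [le_antisymm (iSup₂_le fun q hq => (supportDim_eq_of_comap_eq q q₀ (hq.1.trans hq₀.symm)).le)
        (le_iSup₂_of_le q₀ ⟨hq₀, hs₀⟩ le_rfl)]
      have hne' : ((min (r : WithBot ℕ∞)
          (Module.supportDim (Localization.AtPrime q₀.asIdeal) (LocalizedModule q₀.asIdeal.primeCompl R)))) ≠ ⊥ := by
        have : Nontrivial (LocalizedModule q₀.asIdeal.primeCompl R) := Module.mem_support_iff.1 hs₀
        intro h0
        rcases le_total ((r : ℕ) : WithBot ℕ∞) (Module.supportDim (Localization.AtPrime q₀.asIdeal)
            (LocalizedModule q₀.asIdeal.primeCompl R)) with h1 | h1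
        · rw [min_eq_left h1] at h0; exact absurd h0 (WithBot.natCast_ne_bot r)
        · rw [min_eq_right h1] at h0; exact Module.supportDim_ne_bot_of_nontrivial _ _ h0
      obtain ⟨c, hc⟩ := WithBot.ne_bot_iff_exists.1 hne'
      rw [← hc]
      refine WithBot.coe_le_coe.2 (le_iInf₂ fun q hq => WithBot.coe_le_coe.1 ?_)
      rw [hc, ← supportDim_eq_of_comap_eq q q₀ (hq.1.trans hq₀.symm)]
      exact hR q.asIdeal
    · rw [le_bot_iff.1 (iSup₂_le fun q hq => (hne ⟨q, hq.1, hq.2⟩).elim)]
      simp
  refine ⟨h1, fun p _ => ?_⟩
  let i := LocalizedModule.map p.primeCompl (Algebra.linearMap A R)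
  let e := LocalizedModule.map p.primeCompl E
  have hei : e ∘ₗ i = LinearMap.id := by
    refine LinearMap.ext fun x => ?_
    induction x using LocalizedModule.induction_on with
    | h m s => simp [e, i, LinearMap.congr_fun hE m, show E ((m : A) : R) = m from LinearMap.congr_fun hE m]
  refine le_trans (min_le_min le_rfl ?_) ((h1 p).trans (WithBot.coe_le_coe.2 ?_))
  · exact Module.supportDim_le_of_injective i
      (Function.LeftInverse.injective (g := e) fun x => LinearMap.congr_fun hei x)
  · exact CAlgH3.depth_le_of_retract i e hei

theorem exists_natCast_ringKrullDim {S : Type u} [CommRing S] [IsLocalRing S] [IsNoetherianRing S] :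
    ∃ n : ℕ, ringKrullDim S = (n : WithBot ℕ∞) := by
  have h1 := ringKrullDim_nonneg_of_nontrivial (R := S)
  have h2 := ringKrullDim_lt_top (R := S)
  revert h1 h2
  generalize ringKrullDim S = d
  intro h1 h2
  match d, h1, h2 with
  | ⊥, h1, _ => exact absurd h1 (by simp)
  | ((⊤ : ℕ∞) : WithBot ℕ∞), _, h2 => exact absurd h2 (lt_irrefl _)
  | ((n : ℕ) : ℕ∞), _, _ => exact ⟨n, rfl⟩

theorem isCohenMacaulay_invariants (hG : HopfRep.IsLinearlyReductive k H)
    (hR : _root_.LocCoh.IsCohenMacaulayRing R) :
    _root_.LocCoh.IsCohenMacaulayRing (GLin.invariants k H R) ∧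
      ∀ (p : Ideal (GLin.invariants k H R)) [p.IsPrime],
        _root_.LocCoh.IsCohenMacaulayModule (Localization.AtPrime p) (LocalizedModule p.primeCompl R) ∧
          Module.supportDim (Localization.AtPrime p) (LocalizedModule p.primeCompl R) =
            ringKrullDim (Localization.AtPrime p) := by
  obtain ⟨hN, hNA, hfin⟩ := isNoetherianRing_invariants (k := k) (H := H) (R := R)
  set A := GLin.invariants k H R
  obtain ⟨E, hE⟩ := exists_retraction (R := R) hG
  have hS : ∀ r, _root_.LocCoh.HasSk r R R := fun r q _ => by
    refine (min_le_right _ _).trans (le_of_eq ?_)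
    exact (hR.isCohenMacaulayLocalRing_localization q).supportDim_eq_depth
  have key : ∀ (p : Ideal A) [p.IsPrime],
      (ringKrullDim (Localization.AtPrime p) ≤
        ((_root_.LocCoh.depth (Localization.AtPrime p) (LocalizedModule p.primeCompl A) : ℕ∞) : WithBot ℕ∞)) ∧
      Module.supportDim (Localization.AtPrime p) (LocalizedModule p.primeCompl R) =
        ringKrullDim (Localization.AtPrime p) ∧
      (ringKrullDim (Localization.AtPrime p) ≤
        ((_root_.LocCoh.depth (Localization.AtPrime p) (LocalizedModule p.primeCompl R) : ℕ∞) : WithBot ℕ∞)) := by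
    intro p _
    have : IsNoetherianRing (Localization.AtPrime p) :=
      IsLocalization.isNoetherianRing p.primeCompl _ hNA
    obtain ⟨n, hn⟩ := exists_natCast_ringKrullDim (S := Localization.AtPrime p)
    obtain ⟨h1, h2⟩ := hasSk_invariants (R := R) hG n (hS n)
    have hA : Module.supportDim (Localization.AtPrime p) (LocalizedModule p.primeCompl A) =
        ringKrullDim (Localization.AtPrime p) := Module.supportDim_self_eq_ringKrullDim ..
    have hdim : Module.supportDim (Localization.AtPrime p) (LocalizedModule p.primeCompl R) =
        ringKrullDim (Localization.AtPrime p) := by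
      refine le_antisymm (Module.supportDim_le_ringKrullDim ..) (hA.symm.le.trans ?_)
      refine Module.supportDim_le_of_injective (LocalizedModule.map p.primeCompl (Algebra.linearMap A R))
        (Function.LeftInverse.injective (g := LocalizedModule.map p.primeCompl E) fun x => ?_)
      induction x using LocalizedModule.induction_on with
      | h m s => simp [show E ((m : A) : R) = m from LinearMap.congr_fun hE m]
    refine ⟨?_, hdim, ?_⟩
    · have h := h2 p
      rw [hA, hn, min_self] at h
      rwa [hn]
    · have h := h1 p
      rw [hdim, hn, min_self] at h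
      rwa [hn]
  refine ⟨@_root_.LocCoh.IsCohenMacaulayRing.mk _ _ hNA (fun p _ => ?_), fun p _ => ?_⟩
  · have : IsNoetherianRing (Localization.AtPrime p) := IsLocalization.isNoetherianRing p.primeCompl _ hNA
    refine { supportDim_eq_depth := le_antisymm ?_ (CAlgH3.depth_le_supportDim) }
    rw [Module.supportDim_self_eq_ringKrullDim]
    exact (key p).1
  · have : IsNoetherianRing (Localization.AtPrime p) := IsLocalization.isNoetherianRing p.primeCompl _ hNA
    refine ⟨?_, (key p).2.1⟩
    have hne : Nontrivial (LocalizedModule p.primeCompl R) := by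
      by_contra hsub
      rw [not_nontrivial_iff_subsingleton] at hsub
      have h := (key p).2.1
      rw [Module.supportDim_eq_bot_of_subsingleton] at h
      exact ringKrullDim_ne_bot h.symm
    refine le_antisymm ?_ CAlgH3.depth_le_supportDim
    rw [(key p).2.1]
    exact (key p).2.2

end Groth.Agent.InvLib
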