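import Groth.Agent.InvLib.FiniteGroupNorm
import Groth.Agent.DimLib.Algebra
import Mathlib.RingTheory.LocalRing.ResidueField.Ideal
import Mathlib.RingTheory.Ideal.GoingUp
import Mathlib.RingTheory.Ideal.GoingDown
import Mathlib.RingTheory.Flat.Basic
import Mathlib.RingTheory.Artinian.Module
import Mathlib.RingTheory.Adjoin.Tower
import Mathlib.RingTheory.FiniteType

/-!
# Actions of finite group schemes: invariants, orbits of primes, heights
-/

set_option autoImplicit false

open TensorProduct HopfRep Groth.Agent.HopfLib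

universe u v w

namespace Groth.Agent.InvLib

set_option linter.unusedSectionVars false
set_option maxHeartbeats 400000

variable (k : Type u) [Field k] (H : Type v) [CommRing H] [HopfAlgebra k H] [Module.Finite k H]
  (R : Type w) [CommRing R] [Algebra k R] [Comod k H R] [GLin.IsCoactAlg k H R]

/-- The ring is integral over the invariants. -/
theorem isIntegral_invariants : Algebra.IsIntegral (GLin.invariants k H R) R := by
  refine ⟨fun f => ?_⟩
  set χ := chi (Comod.coact (k := k) (A := H) f)
  have hc : ∀ c ∈ χ.coeffs, c ∈ ((GLin.invariants k H R).toSubring : Set R) := by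
    intro c hc
    obtain ⟨i, -, rfl⟩ := Polynomial.mem_coeffs_iff.1 hc
    exact chi_coeff_mem_invariants f i
  refine ⟨(χ.toSubring (GLin.invariants k H R).toSubring hc), ?_, ?_⟩
  · exact (Polynomial.monic_toSubring _ _ _).2 (chi_monic _)
  · have h : χ.eval f = 0 := chi_eval_eq_zero (k := k) (H := H) f
    rw [← Polynomial.map_toSubring χ (GLin.invariants k H R).toSubring hc, Polynomial.eval_map] at h
    exact h

variable {k H R}

/-- Two primes over the same prime of the invariants are joined by a prime of `R ⊗ H`. -/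
theorem exists_prime_of_comap_eq (q q' : Ideal R) [q.IsPrime] [q'.IsPrime]
    (h : q.comap (algebraMap (GLin.invariants k H R) R) = q'.comap (algebraMap (GLin.invariants k H R) R)) :
    ∃ P : Ideal (R ⊗[k] H), P.IsPrime ∧
      P.comap (Algebra.TensorProduct.includeLeftRingHom : R →+* R ⊗[k] H) = q ∧
      P.comap (GLin.coactAlgHom k H R).toRingHom = q' := by
  classical
  let K := q.ResidueField
  let g : R →ₐ[k] K := IsScalarTower.toAlgHom k R K
  let F := K ⊗[k] H
  let G : R ⊗[k] H →ₐ[k] F := Algebra.TensorProduct.map g (AlgHom.id k H)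
  let ψ : R →ₐ[k] F := G.comp (GLin.coactAlgHom k H R)
  have : IsArtinianRing F := IsArtinianRing.of_finite K F
  have hfin : {M : Ideal F | M.IsMaximal}.Finite := IsArtinianRing.setOfPred_isMaximal_finite F
  have hg0 : ∀ x, g x = 0 ↔ x ∈ q := fun x => by
    simp only [g, IsScalarTower.toAlgHom_apply]
    exact Ideal.algebraMap_residueField_eq_zero
  have hinv : ∀ (M : Ideal F), M.IsMaximal → ∀ a : GLin.invariants k H R, ψ a ∈ M ↔ (a : R) ∈ q := by
    intro M hM a
    have e : ψ (a : R) = algebraMap K F (g a) := by
      show G (GLin.coactAlgHom k H R a) = (g (a : R)) ⊗ₜ[k] (1 : H)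
      rw [GLin.coactAlgHom_apply, (GLin.mem_invariants_iff k H R _).1 a.2]
      rfl
    rw [e, ← hg0]
    refine ⟨fun hm => by_contra fun hne => hM.ne_top
      (M.eq_top_of_isUnit_mem hm ((IsUnit.mk0 _ hne).map (algebraMap K F))), fun h0 => ?_⟩
    rw [h0, map_zero]; exact zero_mem _
  have hcover : ((q' : Ideal R) : Set R) ⊆
      ⋃ M ∈ ((hfin.toFinset : Finset (Ideal F)) : Set (Ideal F)), (M.comap ψ.toRingHom : Set R) := by
    intro f hf
    set χ := chi (Comod.coact (k := k) (A := H) f) with hχ
    have hc0 : χ.coeff 0 ∈ q := by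
      have hmem : χ.coeff 0 ∈ q' := by
        have e := chi_eval_eq_zero (k := k) (H := H) f
        rw [← hχ, ← Polynomial.divX_mul_X_add χ, Polynomial.eval_add, Polynomial.eval_mul, Polynomial.eval_X,
          Polynomial.eval_C] at e
        rw [show χ.coeff 0 = -(Polynomial.eval f χ.divX * f) from eq_neg_of_add_eq_zero_right e]
        exact neg_mem (q'.mul_mem_left _ hf)
      have : (⟨χ.coeff 0, chi_coeff_mem_invariants f 0⟩ : GLin.invariants k H R) ∈
          q'.comap (algebraMap (GLin.invariants k H R) R) := hmem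
      rw [← h] at this
      exact this
    have hnu : ¬ IsUnit (ψ f) := fun hu => by
      have hdet : IsUnit ((Algebra.leftMulMatrix (Algebra.TensorProduct.basis K (Module.finBasis k H))) (ψ f)).det :=
        (Matrix.isUnit_iff_isUnit_det _).1 (hu.map _)
      have e : (chi (ψ f)).coeff 0 = 0 := by
        show (chi (Algebra.TensorProduct.map g (AlgHom.id k H) (Comod.coact (k := k) (A := H) f))).coeff 0 = 0
        rw [chi_map, Polynomial.coeff_map]
        exact (hg0 _).2 hc0
      rw [Matrix.det_eq_sign_charpoly_coeff, show ((Algebra.leftMulMatrix (Algebra.TensorProduct.basis K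
        (Module.finBasis k H))) (ψ f)).charpoly.coeff 0 = 0 from e, mul_zero] at hdet
      exact not_isUnit_zero hdet
    obtain ⟨M, hM, hfM⟩ := exists_max_ideal_of_mem_nonunits hnu
    exact Set.mem_iUnion₂.2 ⟨M, by simpa using hM, hfM⟩
  obtain ⟨M, hM, hle⟩ := (Ideal.subset_union_prime ⊥ ⊥ fun M hM _ _ => by
    have : M.IsMaximal := by simpa using hM
    exact Ideal.IsPrime.comap ψ.toRingHom).1 hcover
  have hMmax : M.IsMaximal := by simpa using hM
  have := isIntegral_invariants k H R
  have : (M.comap ψ.toRingHom).IsPrime := Ideal.IsPrime.comap _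
  have heq : q' = M.comap ψ.toRingHom := by
    refine le_antisymm hle (le_of_eq_of_le rfl ?_)
    by_contra hne
    obtain ⟨x, hx, hx'⟩ := SetLike.not_le_iff_exists.1 hne
    have hlt := Ideal.comap_lt_comap_of_integral_mem_sdiff hle ⟨hx, hx'⟩
      (Algebra.IsIntegral.isIntegral (R := GLin.invariants k H R) x)
    refine hlt.ne ?_
    ext a
    rw [← h]
    exact (hinv M hMmax a).symm
  refine ⟨M.comap G.toRingHom, Ideal.IsPrime.comap _, ?_, by rw [Ideal.comap_comap, heq]; rfl⟩
  ext x
  simp only [Ideal.mem_comap, Algebra.TensorProduct.includeLeftRingHom_apply]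
  have e : G (x ⊗ₜ[k] (1 : H)) = algebraMap K F (g x) := rfl
  show G (x ⊗ₜ[k] (1 : H)) ∈ M ↔ x ∈ q
  rw [e, ← hg0]
  refine ⟨fun hm => by_contra fun hne => hMmax.ne_top
    (M.eq_top_of_isUnit_mem hm ((IsUnit.mk0 _ hne).map (algebraMap K F))), fun h0 => ?_⟩
  rw [h0, map_zero]; exact zero_mem _

/-- Primes with the same trace on the invariants have the same height. -/
theorem height_eq_of_comap_eq [IsNoetherianRing R] (q q' : Ideal R) [q.IsPrime] [q'.IsPrime]
    (h : q.comap (algebraMap (GLin.invariants k H R) R) = q'.comap (algebraMap (GLin.invariants k H R) R)) :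
    q.height = q'.height := by
  obtain ⟨P, hP, h1, h2⟩ := exists_prime_of_comap_eq q q' h
  have : IsNoetherianRing (R ⊗[k] H) := IsNoetherianRing.of_finite R (R ⊗[k] H)
  have e1 : q.height = P.height := by
    rw [← h1]
    exact DimLib.height_comap_eq (R := R) P
  have e2 : (P.comap (twistEquiv (k := k) (H := H) (R := R)).toRingEquiv).height = P.height :=
    RingEquiv.height_comap _ P
  have : (P.comap (twistEquiv (k := k) (H := H) (R := R)).toRingEquiv).IsPrime := Ideal.IsPrime.comap _
  have e3 : q'.height = (P.comap (twistEquiv (k := k) (H := H) (R := R)).toRingEquiv).height := by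
    have e : q' = (P.comap (twistEquiv (k := k) (H := H) (R := R)).toRingEquiv).comap (algebraMap R (R ⊗[k] H)) := by
      rw [← h2]
      ext x
      show GLin.coactAlgHom k H R x ∈ P ↔ twistEquiv (algebraMap R (R ⊗[k] H) x) ∈ P
      rw [Algebra.TensorProduct.algebraMap_apply, Algebra.algebraMap_self_apply, twistEquiv_tmul_one,
        GLin.coactAlgHom_apply]
    rw [e]
    exact DimLib.height_comap_eq (R := R) _
  rw [e1, e3, e2]

variable (k H R)

theorem finiteType_and_finite_invariants [Algebra.FiniteType k R] :
    Algebra.FiniteType k (GLin.invariants k H R) ∧ Module.Finite (GLin.invariants k H R) R := by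
  have := isIntegral_invariants k H R
  have : Algebra.FiniteType (GLin.invariants k H R) R :=
    Algebra.FiniteType.of_restrictScalars_finiteType k _ _
  have hfin : Module.Finite (GLin.invariants k H R) R := Algebra.IsIntegral.finite
  refine ⟨⟨fg_of_fg_of_fg k (GLin.invariants k H R) R Algebra.FiniteType.out hfin.fg_top ?_⟩, hfin⟩
  exact Subtype.val_injective

end Groth.Agent.InvLib
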