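import Groth.Agent.CAlgH3.Depth
import Groth.Agent.LocCoh.DepthLocal
import Groth.Agent.CommAlg6.AtPrime
import Groth.Agent.DimLib.Algebra
import Mathlib.RingTheory.Localization.BaseChange
import Mathlib.RingTheory.Localization.LocalizationLocalization

/-!
# Depth and dimension along restriction of scalars for finite modules
-/

set_option autoImplicit false

universe u

open IsLocalRing RingTheory.Sequence
open scoped Pointwise

namespace Groth.Agent.InvLib

set_option linter.unusedSectionVars false
set_option maxHeartbeats 400000

variable {A B : Type u} [CommRing A] [CommRing B] [IsNoetherianRing A] [IsNoetherianRing B] [Algebra A B]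

/-- `M/xM` does not depend on the base ring. -/
noncomputable def quotSMulTopEquiv (x : A) (M : Type u) [AddCommGroup M] [Module B M] [Module A M]
    [IsScalarTower A B M] : QuotSMulTop (algebraMap A B x) M ≃ₗ[A] QuotSMulTop x M :=
  (Submodule.Quotient.restrictScalarsEquiv A _).symm ≪≫ₗ Submodule.quotEquivOfEq _ _ (by
    ext m
    simp only [Submodule.restrictScalars_mem, Submodule.mem_smul_pointwise_iff_exists, Submodule.mem_top,
      true_and, algebraMap_smul])

theorem natCast_le_depth_of_le_idealDepth [IsLocalRing A] :
    ∀ (n : ℕ) (M : Type u) [AddCommGroup M] [Module B M] [Module A M] [IsScalarTower A B M] [Module.Finite A M],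
      (n : ℕ∞) ≤ _root_.LocCoh.idealDepth ((maximalIdeal A).map (algebraMap A B)) M →
      (n : ℕ∞) ≤ _root_.LocCoh.depth A M := by
  intro n
  induction n with
  | zero => intros; simp
  | succ n ih =>
    intro M _ _ _ _ _ h
    rcases subsingleton_or_nontrivial M with hs | hn
    · rw [CAlgH3.depth_eq_top_of_subsingleton]; exact le_top
    have : Module.Finite B M := Module.Finite.of_restrictScalars_finite A B M
    by_cases htop : (maximalIdeal A).map (algebraMap A B) • (⊤ : Submodule B M) = ⊤
    · exfalso
      refine Submodule.top_ne_ideal_smul_of_le_jacobson_annihilator (M := M)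
        (maximalIdeal_le_jacobson (Module.annihilator A M)) ?_
      refine (eq_top_iff.2 fun m _ => ?_).symm
      have hm : m ∈ (((maximalIdeal A).map (algebraMap A B)) • (⊤ : Submodule B M)).restrictScalars A := by
        rw [Submodule.restrictScalars_mem, htop]; exact Submodule.mem_top
      rwa [Ideal.smul_restrictScalars, Submodule.restrictScalars_top] at hm
    · have h1 : (1 : ℕ∞) ≤ _root_.LocCoh.depth A M := by
        rw [LocCoh.natCast_le_idealDepth_iff_exists _ M htop] at h
        obtain ⟨rs, hlen, hmem, hreg⟩ := h
        obtain ⟨r, rs', rfl⟩ := List.exists_cons_of_length_pos (show 0 < rs.length by omega)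
        have hr := ((isWeaklyRegular_cons_iff M r rs').1 hreg.toIsWeaklyRegular).1
        rw [CAlgH3.one_le_depth_iff]
        intro hass
        obtain ⟨-, m, hm⟩ := (isAssociatedPrime_iff_exists_injective_linearMap _ M).1 hass
        obtain ⟨y, hy⟩ : ∃ y : M, y ≠ 0 ∧ ∀ a ∈ maximalIdeal A, a • y = 0 := by
          refine ⟨m (Submodule.Quotient.mk 1), fun h0 => ?_, fun a ha => ?_⟩
          · have := hm (h0.trans (map_zero m).symm)
            rw [Submodule.Quotient.mk_eq_zero] at this
            exact (maximalIdeal.isMaximal A).ne_top ((Ideal.eq_top_iff_one _).2 this)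
          · rw [← map_smul, ← Submodule.Quotient.mk_smul, smul_eq_mul, mul_one,
              (Submodule.Quotient.mk_eq_zero _).2 ha, map_zero]
        have hle : (maximalIdeal A).map (algebraMap A B) ≤ Submodule.annihilator (Submodule.span B {y}) := by
          refine Ideal.map_le_iff_le_comap.2 fun a ha => ?_
          rw [Ideal.mem_comap, Submodule.mem_annihilator_span_singleton, algebraMap_smul]
          exact hy.2 a ha
        refine hy.1 (hr ?_)
        have := hle (hmem r List.mem_cons_self)
        rw [Submodule.mem_annihilator_span_singleton] at this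
        simp [this]
      obtain ⟨x, hx, hreg⟩ := CAlgH3.exists_regular_of_one_le_depth h1
      have hregB : IsSMulRegular M (algebraMap A B x) := by
        intro p q hpq
        simp only [algebraMap_smul] at hpq
        exact hreg hpq
      rw [← LocCoh.idealDepth_quotSMulTop_add_one _ M (Ideal.mem_map_of_mem _ hx) hregB,
        CAlgH3.natCast_add_one_le_iff] at h
      have : Module.Finite A (QuotSMulTop (algebraMap A B x) M) :=
        Module.Finite.equiv (quotSMulTopEquiv (B := B) x M).symm
      have h2 := ih (QuotSMulTop (algebraMap A B x) M) h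
      rw [CAlgH3.depth_congr (quotSMulTopEquiv (B := B) x M)] at h2
      rw [← CAlgH3.depth_quotSMulTop_add_one hx hreg, CAlgH3.natCast_add_one_le_iff]
      exact h2

/-- Depth over a local ring is the depth along the extended maximal ideal. -/
theorem idealDepth_map_maximalIdeal [IsLocalRing A] (M : Type u) [AddCommGroup M] [Module B M] [Module A M]
    [IsScalarTower A B M] [Module.Finite A M] :
    _root_.LocCoh.idealDepth ((maximalIdeal A).map (algebraMap A B)) M = _root_.LocCoh.depth A M := by
  refine ENat.eq_of_forall_natCast_le_iff fun n => ⟨natCast_le_depth_of_le_idealDepth n M, fun h => ?_⟩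
  have : Module.Finite B M := Module.Finite.of_restrictScalars_finite A B M
  by_cases htop : (maximalIdeal A).map (algebraMap A B) • (⊤ : Submodule B M) = ⊤
  · rw [LocCoh.idealDepth_eq_top _ M htop]; exact le_top
  · have htopA : maximalIdeal A • (⊤ : Submodule A M) ≠ ⊤ := fun h' => htop (eq_top_iff.2 fun m _ => by
      have hm : m ∈ maximalIdeal A • (⊤ : Submodule A M) := by rw [h']; exact Submodule.mem_top
      rw [← Submodule.restrictScalars_top A B M, ← Ideal.smul_restrictScalars,
        Submodule.restrictScalars_mem] at hm
      exact hm)
    obtain ⟨rs, hlen, hmem, hreg⟩ := (LocCoh.natCast_le_idealDepth_iff_exists _ M htopA n).1 h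
    rw [_root_.LocCoh.idealDepth, if_neg htop]
    refine le_iSup₂_of_le (rs.map (algebraMap A B))
      ⟨(isWeaklyRegular_map_algebraMap_iff B M rs).2 hreg.toIsWeaklyRegular, fun r hr => ?_⟩
      (by simpa using hlen)
    obtain ⟨a, ha, rfl⟩ := List.mem_map.1 hr
    exact Ideal.mem_map_of_mem _ (hmem a ha)

section Support

variable (M : Type u) [AddCommGroup M] [Module B M] [Module A M] [IsScalarTower A B M] [Module.Finite A M]

theorem finite_quotient_annihilator : Module.Finite A (B ⧸ Module.annihilator B M) := by
  let ψ : B →ₗ[A] Module.End A M := (Algebra.lsmul A A M).toLinearMap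
  have hk : ((Module.annihilator B M).restrictScalars A) = LinearMap.ker ψ := by
    ext b
    simp [ψ, Module.mem_annihilator, LinearMap.ext_iff]
  have : Module.Finite A (B ⧸ LinearMap.ker ψ) :=
    Module.Finite.of_injective ((LinearMap.ker ψ).liftQ ψ le_rfl)
      (LinearMap.ker_eq_bot.1 (Submodule.ker_liftQ_eq_bot _ _ _ le_rfl))
  exact Module.Finite.equiv ((Submodule.quotEquivOfEq _ _ hk.symm) ≪≫ₗ
    Submodule.Quotient.restrictScalarsEquiv A (Module.annihilator B M : Submodule B B))

theorem comap_annihilator : (Module.annihilator B M).comap (algebraMap A B) = Module.annihilator A M := by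
  ext a; simp [Module.mem_annihilator]

theorem supportDim_restrictScalars : Module.supportDim A M = Module.supportDim B M := by
  have : Module.Finite B M := Module.Finite.of_restrictScalars_finite A B M
  rw [Module.supportDim_eq_ringKrullDim_quotient_annihilator,
    Module.supportDim_eq_ringKrullDim_quotient_annihilator]
  have := finite_quotient_annihilator (A := A) (B := B) M
  let f : A ⧸ Module.annihilator A M →+* B ⧸ Module.annihilator B M :=
    Ideal.quotientMap _ (algebraMap A B) (comap_annihilator M).ge
  let := f.toAlgebra
  have : IsScalarTower A (A ⧸ Module.annihilator A M) (B ⧸ Module.annihilator B M) :=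
    IsScalarTower.of_algebraMap_eq fun a => rfl
  have : Module.Finite (A ⧸ Module.annihilator A M) (B ⧸ Module.annihilator B M) :=
    Module.Finite.of_restrictScalars_finite A _ _
  exact DimLib.ringKrullDim_eq_of_isIntegral (Ideal.quotientMap_injective' (comap_annihilator M).le)

/-- The primes of the support maximal among them lie over maximal ideals. -/
theorem isMaximal_comap_of_mem_support {Q : PrimeSpectrum B} (hQ : Q ∈ Module.support B M)
    (hmax : Q.asIdeal.IsMaximal) : (Q.asIdeal.comap (algebraMap A B)).IsMaximal := by
  have : Module.Finite B M := Module.Finite.of_restrictScalars_finite A B M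
  have hle : Module.annihilator B M ≤ Q.asIdeal := by
    rwa [Module.support_eq_zeroLocus, PrimeSpectrum.mem_zeroLocus, SetLike.coe_subset_coe] at hQ
  have := finite_quotient_annihilator (A := A) (B := B) M
  have hm : (Q.asIdeal.map (Ideal.Quotient.mk (Module.annihilator B M))).IsMaximal :=
    (Ideal.map_eq_top_or_isMaximal_of_surjective _ Ideal.Quotient.mk_surjective hmax).resolve_left fun h => by
      have := congrArg (Ideal.comap (Ideal.Quotient.mk (Module.annihilator B M))) h
      rw [Ideal.comap_map_of_surjective _ Ideal.Quotient.mk_surjective, ← RingHom.ker_eq_comap_bot,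
        Ideal.mk_ker, sup_eq_left.2 hle, Ideal.comap_top] at this
      exact hmax.ne_top this
  have h := Ideal.isMaximal_comap_of_isIntegral_of_isMaximal (R := A)
    (Q.asIdeal.map (Ideal.Quotient.mk (Module.annihilator B M)))
  rwa [show algebraMap A (B ⧸ Module.annihilator B M) = (Ideal.Quotient.mk _).comp (algebraMap A B) from rfl,
    ← Ideal.comap_comap, Ideal.comap_map_of_surjective _ Ideal.Quotient.mk_surjective, ← RingHom.ker_eq_comap_bot,
    Ideal.mk_ker, sup_eq_left.2 hle] at h

end Support

end Groth.Agent.InvLib
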