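import Groth.Agent.HopfLib.Comod
import Groth.Prelude.Def_GLin
import Mathlib.LinearAlgebra.Charpoly.ToMatrix
import Mathlib.LinearAlgebra.Matrix.ToLin
import Mathlib.LinearAlgebra.Matrix.Charpoly.Coeff
import Mathlib.RingTheory.TensorProduct.Free
import Mathlib.RingTheory.HopfAlgebra.Basic

/-!
# Actions of finite group schemes: the characteristic polynomial of a function
-/

set_option autoImplicit false

open TensorProduct HopfRep Groth.Agent.HopfLib

universe u v w w'

namespace Groth.Agent.InvLib

set_option linter.unusedSectionVars false
set_option maxHeartbeats 400000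

variable {k : Type u} [Field k] {H : Type v} [CommRing H] [HopfAlgebra k H]
  {R : Type w} [CommRing R] [Algebra k R]

/-! ### Characteristic polynomials in `R ⊗ H` -/

section Chi

variable [Module.Finite k H]

/-- The characteristic polynomial of an element of `R ⊗ H` over `R`. -/
noncomputable def chi (z : R ⊗[k] H) : Polynomial R :=
  (Algebra.leftMulMatrix (Algebra.TensorProduct.basis R (Module.finBasis k H)) z).charpoly

theorem chi_eq (z : R ⊗[k] H) : chi z = LinearMap.charpoly (Algebra.lmul R (R ⊗[k] H) z) :=
  (LinearMap.charpoly_toMatrix (Algebra.lmul R (R ⊗[k] H) z)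
    (Algebra.TensorProduct.basis R (Module.finBasis k H)))

theorem chi_monic (z : R ⊗[k] H) : (chi z).Monic := Matrix.charpoly_monic _

theorem chi_aeval (z : R ⊗[k] H) : Polynomial.aeval z (chi z) = 0 := by
  refine Algebra.leftMulMatrix_injective (Algebra.TensorProduct.basis R (Module.finBasis k H)) ?_
  rw [← Polynomial.aeval_algHom_apply, map_zero]
  exact Matrix.aeval_self_charpoly _

theorem chi_map {R' : Type w'} [CommRing R'] [Algebra k R'] (g : R →ₐ[k] R') (z : R ⊗[k] H) :
    chi (Algebra.TensorProduct.map g (AlgHom.id k H) z) = (chi z).map g.toRingHom := by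
  rw [chi, chi, ← Matrix.charpoly_map]
  congr 1
  ext i j
  rw [Matrix.map_apply, Algebra.leftMulMatrix_eq_repr_mul, Algebra.leftMulMatrix_eq_repr_mul,
    Algebra.TensorProduct.basis_apply, Algebra.TensorProduct.basis_apply,
    show (1 : R') ⊗ₜ[k] Module.finBasis k H j =
      Algebra.TensorProduct.map g (AlgHom.id k H) ((1 : R) ⊗ₜ[k] Module.finBasis k H j) by simp,
    ← map_mul]
  generalize z * ((1 : R) ⊗ₜ[k] Module.finBasis k H j) = w
  induction w using TensorProduct.induction_on with
  | zero => simp
  | add p q hp hq => simp only [map_add, Finsupp.add_apply, hp, hq]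
  | tmul r h =>
    simp [Algebra.TensorProduct.basis_repr_tmul, Finsupp.mapRange_apply, AlgHom.commutes]

theorem chi_algHom_bijective (σ : (R ⊗[k] H) →ₐ[R] (R ⊗[k] H)) (hσ : Function.Bijective σ) (z : R ⊗[k] H) :
    chi (σ z) = chi z := by
  let e : (R ⊗[k] H) ≃ₐ[R] (R ⊗[k] H) := AlgEquiv.ofBijective σ hσ
  rw [show σ z = e z from rfl, chi_eq, chi_eq, ← LinearEquiv.charpoly_conj e.toLinearEquiv (Algebra.lmul R (R ⊗[k] H) z)]
  congr 1
  refine LinearMap.ext fun x => ?_
  simp [LinearEquiv.conj_apply, map_mul]

end Chi

variable [Comod k H R] [GLin.IsCoactAlg k H R]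

/-! ### The twist `r ⊗ h ↦ coact r · h` -/

/-- `r ⊗ h ↦ coact r · (1 ⊗ h)`. -/
noncomputable def twistHom : R ⊗[k] H →ₐ[k] R ⊗[k] H :=
  Algebra.TensorProduct.lift (GLin.coactAlgHom k H R) Algebra.TensorProduct.includeRight fun _ _ => .all ..

/-- `r ⊗ h ↦ r₀ ⊗ S(r₁) h`. -/
noncomputable def untwistHom : R ⊗[k] H →ₐ[k] R ⊗[k] H :=
  Algebra.TensorProduct.lift
    ((Algebra.TensorProduct.map (AlgHom.id k R) (HopfAlgebra.antipodeAlgHom k H)).comp (GLin.coactAlgHom k H R))
    Algebra.TensorProduct.includeRight fun _ _ => .all ..

theorem lTensor_coassoc_eq_tmul_one (P : H ⊗[k] H →ₗ[k] H)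
    (hP : ∀ h, P (CoalgebraStruct.comul (R := k) h) = algebraMap k H (CoalgebraStruct.counit h)) (r : R) :
    P.lTensor R (TensorProduct.assoc k R H H
      ((Comod.coact (k := k) (A := H) (V := R)).rTensor H (Comod.coact r))) = r ⊗ₜ[k] (1 : H) := by
  rw [coassoc_apply]
  have e := congrArg ((Algebra.linearMap k H).lTensor R) (counit_coact (k := k) (A := H) r)
  simp only [LinearMap.lTensor_tmul, Algebra.linearMap_apply, map_one] at e
  rw [← e]
  generalize Comod.coact (k := k) (A := H) r = t
  induction t using TensorProduct.induction_on with
  | zero => simp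
  | add p q hp hq => simp only [map_add, hp, hq]
  | tmul a b => simp [hP]

theorem untwist_twist (x : R ⊗[k] H) : untwistHom (twistHom x) = x := by
  induction x using TensorProduct.induction_on with
  | zero => simp
  | add p q hp hq => simp only [map_add, hp, hq]
  | tmul r h =>
    have key : untwistHom (Comod.coact (k := k) (A := H) r) = r ⊗ₜ[k] (1 : H) := by
      have e : ∀ t : R ⊗[k] H, untwistHom t =
          (LinearMap.mul' k H ∘ₗ (HopfAlgebraStruct.antipode k).rTensor H).lTensor R
            (TensorProduct.assoc k R H H ((Comod.coact (k := k) (A := H) (V := R)).rTensor H t)) := fun t => by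
        induction t using TensorProduct.induction_on with
        | zero => simp
        | add p q hp hq => simp only [map_add, hp, hq]
        | tmul a b =>
          simp only [untwistHom, Algebra.TensorProduct.lift_tmul, AlgHom.comp_apply, GLin.coactAlgHom_apply,
            LinearMap.rTensor_tmul]
          generalize Comod.coact (k := k) (A := H) a = s
          induction s using TensorProduct.induction_on with
          | zero => simp
          | add p q hp hq => simp only [map_add, add_tmul, add_mul, hp, hq]
          | tmul c d => simp [HopfAlgebra.antipodeAlgHom]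
      rw [e]
      exact lTensor_coassoc_eq_tmul_one _ (fun h => by simp [HopfAlgebra.mul_antipode_rTensor_comul_apply]) r
    simp only [twistHom, Algebra.TensorProduct.lift_tmul, GLin.coactAlgHom_apply, map_mul, key,
      Algebra.TensorProduct.includeRight_apply]
    simp [untwistHom, Algebra.TensorProduct.lift_tmul, GLin.IsCoactAlg.coact_one, Algebra.TensorProduct.one_def]

theorem twist_untwist (x : R ⊗[k] H) : twistHom (untwistHom x) = x := by
  induction x using TensorProduct.induction_on with
  | zero => simp
  | add p q hp hq => simp only [map_add, hp, hq]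
  | tmul r h =>
    have key : twistHom (Algebra.TensorProduct.map (AlgHom.id k R) (HopfAlgebra.antipodeAlgHom k H)
        (Comod.coact (k := k) (A := H) r)) = r ⊗ₜ[k] (1 : H) := by
      have e : ∀ t : R ⊗[k] H, twistHom (Algebra.TensorProduct.map (AlgHom.id k R)
          (HopfAlgebra.antipodeAlgHom k H) t) =
          (LinearMap.mul' k H ∘ₗ (HopfAlgebraStruct.antipode k).lTensor H).lTensor R
            (TensorProduct.assoc k R H H ((Comod.coact (k := k) (A := H) (V := R)).rTensor H t)) := fun t => by
        induction t using TensorProduct.induction_on with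
        | zero => simp
        | add p q hp hq => simp only [map_add, hp, hq]
        | tmul a b =>
          simp only [twistHom, Algebra.TensorProduct.map_tmul, Algebra.TensorProduct.lift_tmul,
            GLin.coactAlgHom_apply, LinearMap.rTensor_tmul, AlgHom.id_apply]
          generalize Comod.coact (k := k) (A := H) a = s
          induction s using TensorProduct.induction_on with
          | zero => simp
          | add p q hp hq => simp only [map_add, add_tmul, add_mul, hp, hq]
          | tmul c d => simp [HopfAlgebra.antipodeAlgHom]
      rw [e]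
      exact lTensor_coassoc_eq_tmul_one _ (fun h => by simp [HopfAlgebra.mul_antipode_lTensor_comul_apply]) r
    simp only [untwistHom, Algebra.TensorProduct.lift_tmul, AlgHom.comp_apply, GLin.coactAlgHom_apply, map_mul,
      key, Algebra.TensorProduct.includeRight_apply]
    simp [twistHom, Algebra.TensorProduct.lift_tmul, GLin.IsCoactAlg.coact_one, Algebra.TensorProduct.one_def]

/-- The twist as an automorphism. -/
noncomputable def twistEquiv : (R ⊗[k] H) ≃ₐ[k] (R ⊗[k] H) :=
  AlgEquiv.ofAlgHom twistHom untwistHom (AlgHom.ext twist_untwist) (AlgHom.ext untwist_twist)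

theorem twistEquiv_tmul_one (r : R) :
    twistEquiv (H := H) (r ⊗ₜ[k] (1 : H)) = Comod.coact (k := k) (A := H) r := by
  simp [twistEquiv, twistHom, ← Algebra.TensorProduct.one_def]

/-! ### Invariance -/

/-- `(r ⊗ a) ⊗ b ↦ (r ⊗ a b₁) ⊗ b₂`. -/
noncomputable def theta : ((R ⊗[k] H) ⊗[k] H) →ₐ[R ⊗[k] H] ((R ⊗[k] H) ⊗[k] H) :=
  Algebra.TensorProduct.lift (Algebra.ofId _ _)
    ((Algebra.TensorProduct.map (Algebra.TensorProduct.includeRight : H →ₐ[k] R ⊗[k] H) (AlgHom.id k H)).comp
      (Bialgebra.comulAlgHom k H)) fun _ _ => .all ..

theorem theta_bijective [Module.Finite k H] : Function.Bijective (theta (k := k) (H := H) (R := R)) := by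
  have hsurj : Function.Surjective (theta (k := k) (H := H) (R := R)).toLinearMap := by
    rw [← LinearMap.range_eq_top, eq_top_iff]
    rintro x -
    induction x using TensorProduct.induction_on with
    | zero => exact zero_mem _
    | add p q hp hq => exact add_mem hp hq
    | tmul z b =>
      rw [show z ⊗ₜ[k] b = z • ((1 : R ⊗[k] H) ⊗ₜ[k] b) by simp [TensorProduct.smul_tmul']]
      refine Submodule.smul_mem _ z ⟨Algebra.TensorProduct.map
        ((Algebra.TensorProduct.includeRight : H →ₐ[k] R ⊗[k] H).comp (HopfAlgebra.antipodeAlgHom k H))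
        (AlgHom.id k H) (CoalgebraStruct.comul (R := k) b), ?_⟩
      have e : ∀ t : H ⊗[k] H, theta (R := R) (Algebra.TensorProduct.map
          ((Algebra.TensorProduct.includeRight : H →ₐ[k] R ⊗[k] H).comp (HopfAlgebra.antipodeAlgHom k H))
          (AlgHom.id k H) t) = Algebra.TensorProduct.map
          (Algebra.TensorProduct.includeRight : H →ₐ[k] R ⊗[k] H) (AlgHom.id k H)
          ((LinearMap.mul' k H ∘ₗ (HopfAlgebraStruct.antipode k).rTensor H).rTensor H
            ((TensorProduct.assoc k H H H).symm ((CoalgebraStruct.comul (R := k) (A := H)).lTensor H t))) := by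
        intro t
        induction t using TensorProduct.induction_on with
        | zero => simp
        | add p q hp hq => simp only [map_add, hp, hq]
        | tmul c d =>
          simp only [theta, Algebra.TensorProduct.map_tmul, Algebra.TensorProduct.lift_tmul, AlgHom.comp_apply,
            Bialgebra.comulAlgHom_apply, AlgHom.id_apply, LinearMap.lTensor_tmul, Algebra.ofId_apply,
            Algebra.TensorProduct.algebraMap_apply, Algebra.algebraMap_self_apply]
          generalize CoalgebraStruct.comul (R := k) d = s
          induction s using TensorProduct.induction_on with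
          | zero => simp
          | add p q hp hq => simp only [map_add, mul_add, hp, hq, tmul_add]
          | tmul c' d' => simp [HopfAlgebra.antipodeAlgHom]
      rw [AlgHom.toLinearMap_apply, e,
        show (CoalgebraStruct.comul (R := k) (A := H)).lTensor H (CoalgebraStruct.comul (R := k) b) =
          TensorProduct.assoc k H H H ((CoalgebraStruct.comul (R := k) (A := H)).rTensor H
            (CoalgebraStruct.comul (R := k) b)) from (Coalgebra.coassoc_apply (R := k) b).symm,
        LinearEquiv.symm_apply_apply]
      have e2 := congrArg ((Algebra.linearMap k H).rTensor H) (Coalgebra.rTensor_counit_comul (R := k) b)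
      simp only [LinearMap.rTensor_tmul, Algebra.linearMap_apply, map_one] at e2
      have e3 : (LinearMap.mul' k H ∘ₗ (HopfAlgebraStruct.antipode k).rTensor H).rTensor H
          ((CoalgebraStruct.comul (R := k) (A := H)).rTensor H (CoalgebraStruct.comul (R := k) b)) =
          (1 : H) ⊗ₜ[k] b := by
        rw [← e2]
        generalize CoalgebraStruct.comul (R := k) b = s
        induction s using TensorProduct.induction_on with
        | zero => simp
        | add p q hp hq => simp only [map_add, hp, hq]
        | tmul c d => simp [HopfAlgebra.mul_antipode_rTensor_comul_apply]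
      rw [e3, Algebra.TensorProduct.map_tmul, map_one, AlgHom.id_apply]
  exact OrzechProperty.bijective_of_surjective_endomorphism _ hsurj

variable [Module.Finite k H]

theorem map_chi_coact_eq (f : R) :
    (chi (Comod.coact (k := k) (A := H) f)).map (GLin.coactAlgHom k H R).toRingHom =
      (chi (Comod.coact (k := k) (A := H) f)).map
        (Algebra.TensorProduct.includeLeft : R →ₐ[k] R ⊗[k] H).toRingHom := by
  rw [← chi_map, ← chi_map]
  have e1 : Algebra.TensorProduct.map (GLin.coactAlgHom k H R) (AlgHom.id k H) (Comod.coact f) =
      (TensorProduct.assoc k R H H).symm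
        ((CoalgebraStruct.comul (R := k) (A := H)).lTensor R (Comod.coact f)) := by
    rw [← coassoc_apply, LinearEquiv.symm_apply_apply]
    generalize Comod.coact (k := k) (A := H) f = t
    induction t using TensorProduct.induction_on with
    | zero => simp
    | add p q hp hq => simp only [map_add, hp, hq]
    | tmul a b => simp
  have e2 : theta (Algebra.TensorProduct.map (Algebra.TensorProduct.includeLeft : R →ₐ[k] R ⊗[k] H)
      (AlgHom.id k H) (Comod.coact f)) =
      (TensorProduct.assoc k R H H).symm
        ((CoalgebraStruct.comul (R := k) (A := H)).lTensor R (Comod.coact f)) := by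
    generalize Comod.coact (k := k) (A := H) f = t
    induction t using TensorProduct.induction_on with
    | zero => simp
    | add p q hp hq => simp only [map_add, hp, hq]
    | tmul a b =>
      simp only [theta, Algebra.TensorProduct.map_tmul, Algebra.TensorProduct.lift_tmul, AlgHom.comp_apply,
        Bialgebra.comulAlgHom_apply, LinearMap.lTensor_tmul, AlgHom.id_apply,
        Algebra.TensorProduct.includeLeft_apply, Algebra.ofId_apply, Algebra.TensorProduct.algebraMap_apply,
        Algebra.algebraMap_self_apply]
      generalize CoalgebraStruct.comul (R := k) b = t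
      induction t using TensorProduct.induction_on with
      | zero => simp
      | add p q hp hq => simp only [map_add, mul_add, hp, hq, tmul_add]
      | tmul c d => simp
  rw [e1, ← e2]
  exact chi_algHom_bijective (R := R ⊗[k] H) (theta (k := k) (H := H) (R := R)) theta_bijective _

theorem chi_coeff_mem_invariants (f : R) (i : ℕ) :
    (chi (Comod.coact (k := k) (A := H) f)).coeff i ∈ GLin.invariants k H R := by
  rw [GLin.mem_invariants_iff]
  have := congrArg (fun p => Polynomial.coeff p i) (map_chi_coact_eq (k := k) (H := H) f)
  simpa using this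

theorem chi_eval_eq_zero (f : R) : (chi (Comod.coact (k := k) (A := H) f)).eval f = 0 := by
  set χ := chi (Comod.coact (k := k) (A := H) f) with hχ
  have h : Comod.coact (k := k) (A := H) (χ.eval f) = 0 := by
    rw [← GLin.coactAlgHom_apply, show (GLin.coactAlgHom k H R) (Polynomial.eval f χ) =
      (GLin.coactAlgHom k H R).toRingHom (Polynomial.eval f χ) from rfl, ← Polynomial.eval_map_apply, map_chi_coact_eq]
    have h0 := chi_aeval (Comod.coact (k := k) (A := H) f)
    rw [Polynomial.aeval_def, ← Polynomial.eval_map] at h0
    exact h0
  have h2 := counit_coact (k := k) (A := H) (χ.eval f)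
  rw [h, map_zero] at h2
  have := congrArg (TensorProduct.rid k R) h2
  simpa using this.symm

end Groth.Agent.InvLib
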